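import Groth.Agent.Lib.NoetherDiff.Theta
import Mathlib.RingTheory.Ideal.GoingUp
import Mathlib.RingTheory.Ideal.AssociatedPrime.Basic
import Mathlib.RingTheory.Localization.Integer
import Mathlib.RingTheory.Localization.FractionRing
import Mathlib.RingTheory.IntegralClosure.IsIntegralClosure.Basic
import Mathlib.LinearAlgebra.Basis.VectorSpace

/-! # Associated primes of the dualizing module of a finite algebra -/

universe u v

namespace GrothLib.NoetherDiff

variable {A : Type u} {B : Type v} [CommRing A] [CommRing B] [Algebra A B]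

lemma mem_colon_bot {R M : Type*} [CommRing R] [AddCommGroup M] [Module R M] {r : R} {x : M} :
    r ∈ (⊥ : Submodule R M).colon ({x} : Set M) ↔ r • x = 0 := by
  rw [Submodule.mem_colon_singleton, Submodule.mem_bot]

theorem comap_mem_associatedPrimes [IsNoetherianRing A] [IsNoetherianRing B] [Module.Finite A B]
    {q : Ideal B} (hq : IsAssociatedPrime q (Disc.Omega A B)) :
    q.comap (algebraMap A B) ∈ associatedPrimes A A := by
  obtain ⟨hprime, φ, rfl⟩ := isAssociatedPrime_iff.1 hq
  obtain ⟨s, hs⟩ := (Module.Finite.fg_top : (⊤ : Submodule A B).FG)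
  have heq : ((⊥ : Submodule B (Disc.Omega A B)).colon {φ}).comap (algebraMap A B) =
      s.inf (fun y => (⊥ : Ideal A).colon ({φ.toLinearMap y} : Set A)) := by
    ext a
    rw [Ideal.mem_comap, mem_colon_bot, Submodule.mem_finsetInf]
    constructor
    · intro h y _
      have := congrArg (fun l : Disc.Omega A B => l.toLinearMap y) h
      rw [mem_colon_bot, smul_eq_mul]
      simpa [← Algebra.smul_def] using this
    · intro h
      have h' : (algebraMap A B a • φ).toLinearMap = 0 := by
        refine LinearMap.ext_on hs fun y hy => ?_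
        have := h y hy
        rw [mem_colon_bot, smul_eq_mul] at this
        simpa [← Algebra.smul_def] using this
      exact Disc.Omega.ext h'
  have hp : (((⊥ : Submodule B (Disc.Omega A B)).colon {φ}).comap (algebraMap A B)).IsPrime :=
    hprime.comap _
  obtain ⟨y, hys, hy⟩ := (hp.inf_le').1 heq.ge
  refine isAssociatedPrime_iff.2 ⟨hp, φ.toLinearMap y, le_antisymm ?_ hy⟩
  rw [heq]
  exact Finset.inf_le hys

theorem mem_associatedPrimes_omega [IsNoetherianRing A] [IsNoetherianRing B] [Module.Finite A B]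
    {q : Ideal B} [q.IsPrime] (hq : q.comap (algebraMap A B) ∈ associatedPrimes A A) :
    IsAssociatedPrime q (Disc.Omega A B) := by
  classical
  obtain ⟨hp, a, ha⟩ := isAssociatedPrime_iff.1 hq
  set p := q.comap (algebraMap A B) with hpdef
  haveI := hp
  let ι : A ⧸ p →+* B ⧸ q := Ideal.quotientMap q (algebraMap A B) le_rfl
  have hι : Function.Injective ι := Ideal.quotientMap_injective
  let K := FractionRing (A ⧸ p)
  let L := FractionRing (B ⧸ q)
  have hι' : Function.Injective ((algebraMap (B ⧸ q) L).comp ι) :=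
    (IsFractionRing.injective (B ⧸ q) L).comp hι
  letI : Algebra K L := (IsFractionRing.lift hι').toAlgebra
  obtain ⟨f, hf⟩ := (Algebra.linearMap K L).exists_leftInverse_of_injective
    (LinearMap.ker_eq_bot.2 (algebraMap K L).injective)
  have hfK : ∀ k : K, f (algebraMap K L k) = k := fun k => LinearMap.congr_fun hf k
  let g : B →+* L := (algebraMap (B ⧸ q) L).comp (Ideal.Quotient.mk q)
  let h : A →+* K := (algebraMap (A ⧸ p) K).comp (Ideal.Quotient.mk p)
  have hgh : ∀ r : A, g (algebraMap A B r) = algebraMap K L (h r) := fun r => by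
    show _ = IsFractionRing.lift hι' (algebraMap (A ⧸ p) K _)
    rw [IsFractionRing.lift_algebraMap]
    rfl
  have hfsmul : ∀ (r : A) (x : B), f (g (algebraMap A B r * x)) = h r * f (g x) := fun r x => by
    rw [map_mul, hgh, ← Algebra.smul_def, map_smul, smul_eq_mul]
  obtain ⟨s, hs⟩ := (Module.Finite.fg_top : (⊤ : Submodule A B).FG)
  obtain ⟨⟨d, hd⟩, hint⟩ := IsLocalization.exist_integer_multiples (nonZeroDivisors (A ⧸ p))
    s (fun y => f (g y))
  have hd0 : d ≠ 0 := nonZeroDivisors.ne_zero hd
  have hrange : ∀ y : B, ∃ z : A ⧸ p, algebraMap (A ⧸ p) K z = algebraMap (A ⧸ p) K d * f (g y) := by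
    intro y
    have hy : y ∈ Submodule.span A (s : Set B) := hs ▸ Submodule.mem_top
    induction hy using Submodule.span_induction with
    | mem y hy =>
      obtain ⟨z, hz⟩ := hint y hy
      exact ⟨z, by rw [hz, Algebra.smul_def]⟩
    | zero => exact ⟨0, by simp⟩
    | add x y _ _ hx hy =>
      obtain ⟨z, hz⟩ := hx
      obtain ⟨z', hz'⟩ := hy
      exact ⟨z + z', by rw [map_add, hz, hz', map_add, map_add, mul_add]⟩
    | smul r x _ hx =>
      obtain ⟨z, hz⟩ := hx
      refine ⟨Ideal.Quotient.mk p r * z, ?_⟩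
      rw [map_mul, hz, Algebra.smul_def, hfsmul]
      simp only [h, RingHom.comp_apply]
      ring
  choose χ hχ using hrange
  have hK := IsFractionRing.injective (A ⧸ p) K
  let θ : A ⧸ p →ₗ[A] A := p.liftQ (LinearMap.mulLeft A a) (fun r hr => by
    rw [ha, mem_colon_bot, smul_eq_mul] at hr
    rw [LinearMap.mem_ker, LinearMap.mulLeft_apply, mul_comm]
    exact hr)
  have hθ : ∀ z, θ z = 0 → z = 0 := by
    intro z
    obtain ⟨r, rfl⟩ := Submodule.Quotient.mk_surjective p z
    intro hz
    change LinearMap.mulLeft A a r = 0 at hz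
    refine (Submodule.Quotient.mk_eq_zero p).2 ?_
    rw [ha, mem_colon_bot, smul_eq_mul, mul_comm]
    exact hz
  let χ' : B →ₗ[A] A ⧸ p :=
    { toFun := χ
      map_add' := fun x y => hK (by rw [map_add, hχ, hχ, hχ, map_add, map_add, mul_add])
      map_smul' := fun r x => hK (by
        rw [RingHom.id_apply, hχ, Algebra.smul_def r x, hfsmul, Algebra.smul_def r (χ x), map_mul,
          hχ]
        show _ = algebraMap (A ⧸ p) K (Ideal.Quotient.mk p r) * _
        simp only [h, RingHom.comp_apply]
        ring) }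
  let φ : Disc.Omega A B := ⟨θ ∘ₗ χ'⟩
  have hann : ∀ b : B, b • φ = 0 → ∀ x, f (g (b * x)) = 0 := by
    intro b hb x
    have h1 : θ (χ (b * x)) = 0 := congrArg (fun l : Disc.Omega A B => l.toLinearMap x) hb
    have h2 := hχ (b * x)
    rw [hθ _ h1, map_zero] at h2
    exact (mul_eq_zero.1 h2.symm).resolve_left fun h => hd0 ((map_eq_zero_iff _ hK).1 h)
  have hle : q ≤ (⊥ : Submodule B (Disc.Omega A B)).colon {φ} := by
    intro b hb
    rw [mem_colon_bot]
    refine Disc.Omega.ext (LinearMap.ext fun x => ?_)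
    show θ (χ (b * x)) = 0
    have : χ (b * x) = 0 := hK (by
      rw [hχ, show g (b * x) = 0 by
        simp [g, Ideal.Quotient.eq_zero_iff_mem.2 (q.mul_mem_right x hb)], map_zero, mul_zero,
        map_zero])
    rw [this, map_zero]
  refine isAssociatedPrime_iff.2 ⟨inferInstance, φ, le_antisymm hle fun b hb => ?_⟩
  by_contra hbq
  have hlt := Ideal.comap_lt_comap_of_integral_mem_sdiff (R := A) hle ⟨hb, hbq⟩
    (Algebra.IsIntegral.isIntegral b)
  obtain ⟨r, hr1, hr2⟩ := SetLike.exists_of_lt hlt
  rw [Ideal.mem_comap, mem_colon_bot] at hr1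
  have := hann _ hr1 1
  rw [mul_one, hgh, hfK] at this
  exact hr2 (Ideal.Quotient.eq_zero_iff_mem.1 ((map_eq_zero_iff _ hK).1 this))

theorem associatedPrimes_omega [IsNoetherianRing A] [IsNoetherianRing B] [Module.Finite A B] :
    associatedPrimes B (Disc.Omega A B) =
      {q : Ideal B | q.IsPrime ∧ q.comap (algebraMap A B) ∈ associatedPrimes A A} := by
  ext q
  exact ⟨fun h => ⟨h.isPrime, comap_mem_associatedPrimes h⟩,
    fun ⟨hq, h⟩ => haveI := hq; mem_associatedPrimes_omega h⟩

end GrothLib.NoetherDiff
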