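import Groth.Agent.Lib.NoetherDiff.Theta
import Mathlib.RingTheory.RingHom.Flat
import Mathlib.RingTheory.Flat.EquationalCriterion
import Mathlib.RingTheory.Flat.Stability
import Mathlib.AlgebraicGeometry.Morphisms.Flat

/-! # The Noether different and flat maps -/

universe u

namespace GrothLib.NoetherDiff

open TensorProduct

/-- Annihilators of finitely generated ideals commute with flat ring maps. -/
theorem annihilator_map_of_flat {C C' : Type*} [CommRing C] [CommRing C'] (g : C →+* C')
    (hg : g.Flat) {I : Ideal C} (hI : I.FG) :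
    Submodule.annihilator (I.map g) = (Submodule.annihilator I).map g := by
  classical
  algebraize [g]
  haveI : Module.Flat C C' := hg
  have hgeq : algebraMap C C' = g := rfl
  refine le_antisymm (fun y hy => ?_) (Ideal.map_le_iff_le_comap.2 fun c hc => ?_)
  swap
  · rw [Ideal.mem_comap, Ideal.map, Ideal.span, Submodule.mem_annihilator_span]
    rintro ⟨_, x, hx, rfl⟩
    rw [smul_eq_mul, ← map_mul, ← smul_eq_mul, Submodule.mem_annihilator.1 hc x hx, map_zero]
  obtain ⟨s, rfl⟩ := hI
  rw [Ideal.map_span, Ideal.span, Submodule.mem_annihilator_span] at hy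
  have hy' : ∀ x ∈ s, y * g x = 0 := fun x hx => hy ⟨g x, x, hx, rfl⟩
  suffices ∀ t : Finset C, (∀ x ∈ t, y * g x = 0) → ∃ (k : ℕ) (a : Fin k → C) (w : Fin k → C'),
      (∀ j, ∀ x ∈ t, a j * x = 0) ∧ y = ∑ j, a j • w j by
    obtain ⟨k, a, w, ha, rfl⟩ := this s hy'
    refine Ideal.sum_mem _ fun j _ => ?_
    rw [Algebra.smul_def]
    refine Ideal.mul_mem_right _ _ (Ideal.mem_map_of_mem _ ?_)
    rw [Submodule.mem_annihilator_span]
    rintro ⟨x, hx⟩
    exact ha j x hx
  intro t
  induction t using Finset.induction_on with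
  | empty => exact fun _ => ⟨1, fun _ => 1, fun _ => y, by simp, by simp⟩
  | insert x t hxt ih =>
    intro h
    obtain ⟨k, a, w, ha, hw⟩ := ih fun z hz => h z (Finset.mem_insert_of_mem hz)
    have h0 : ∑ j, (a j * x) • w j = 0 := by
      have h1 := h x (Finset.mem_insert_self _ _)
      rw [hw, Finset.sum_mul] at h1
      rw [← h1]
      refine Finset.sum_congr rfl fun j _ => ?_
      rw [Algebra.smul_def, Algebra.smul_def, map_mul, hgeq]
      ring
    obtain ⟨κ, m, z, hz, hb⟩ := Module.Flat.isTrivialRelation_of_sum_smul_eq_zero h0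
    refine ⟨κ, fun l => ∑ j, a j * m j l, z, fun l u hu => ?_, ?_⟩
    · rw [Finset.sum_mul]
      rcases Finset.mem_insert.1 hu with rfl | hu
      · rw [← hb l]
        exact Finset.sum_congr rfl fun j _ => by simp only [smul_eq_mul]; ring
      · exact Finset.sum_eq_zero fun j _ => by rw [mul_right_comm, ha j u hu, zero_mul]
    · rw [hw]
      simp only [hz, Finset.smul_sum, smul_smul, Finset.sum_smul]
      exact Finset.sum_comm

/-- Transfer of the Noether different along a flat map of the enveloping algebras. -/
theorem noetherDifferent_map {A B A' B' : Type u} [CommRing A] [CommRing B]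
    [CommRing A'] [CommRing B'] [Algebra A B] [Algebra A' B'] [Algebra B B']
    [Algebra.EssFiniteType A B] (g : B ⊗[A] B →+* B' ⊗[A'] B') (hg : g.Flat)
    (htmul : ∀ x y : B, g (x ⊗ₜ y) = algebraMap B B' x ⊗ₜ algebraMap B B' y)
    (hgen : ∀ J : Ideal (B' ⊗[A'] B'),
      (∀ b : B, (1 : B') ⊗ₜ[A'] algebraMap B B' b - algebraMap B B' b ⊗ₜ 1 ∈ J) →
        ∀ b : B', (1 : B') ⊗ₜ[A'] b - b ⊗ₜ 1 ∈ J) :
    Disc.noetherDifferent A' B' = (Disc.noetherDifferent A B).map (algebraMap B B') := by
  have hμ : ((Algebra.TensorProduct.lmul' (S := B') A').toRingHom).comp g =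
      (algebraMap B B').comp (Algebra.TensorProduct.lmul' (S := B) A).toRingHom := by
    refine RingHom.ext fun z => ?_
    induction z using TensorProduct.induction_on with
    | zero => simp
    | tmul x y => simp [htmul]
    | add x y hx hy => simp only [map_add, hx, hy]
  have hI : diag A' B' = (diag A B).map g := by
    refine le_antisymm ?_ (Ideal.map_le_iff_le_comap.2 fun z hz => ?_)
    · show KaehlerDifferential.ideal A' B' ≤ _
      rw [← KaehlerDifferential.span_range_eq_ideal, Ideal.span_le]
      rintro _ ⟨b, rfl⟩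
      refine hgen _ (fun c => ?_) b
      rw [show algebraMap B B' c = algebraMap B B' c from rfl, ← (algebraMap B B').map_one,
        ← htmul, ← htmul, ← map_sub]
      exact Ideal.mem_map_of_mem _ (KaehlerDifferential.one_smul_sub_smul_one_mem_ideal A c)
    · rw [Ideal.mem_comap, RingHom.mem_ker]
      have := DFunLike.congr_fun hμ z
      simp only [RingHom.comp_apply] at this
      refine this.trans ?_
      rw [show (Algebra.TensorProduct.lmul' (S := B) A).toRingHom z = 0 from hz, map_zero]
  unfold Disc.noetherDifferent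
  change Ideal.map (Algebra.TensorProduct.lmul' (S := B') A').toRingHom
      (Submodule.annihilator (diag A' B')) =
    Ideal.map _ (Ideal.map (Algebra.TensorProduct.lmul' (S := B) A).toRingHom _)
  rw [hI, annihilator_map_of_flat g hg (KaehlerDifferential.ideal_fg A B), Ideal.map_map,
    Ideal.map_map, hμ]

/-- Flat base change of the Noether different. -/
theorem flat_baseChange {A B A' B' : Type u} [CommRing A] [CommRing B]
    [CommRing A'] [CommRing B'] [Algebra A B] [Algebra A A'] [Algebra A B'] [Algebra B B']
    [Algebra A' B'] [IsScalarTower A B B'] [IsScalarTower A A' B']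
    [Algebra.IsPushout A B A' B'] [Algebra.FiniteType A B] [Module.Flat A A'] :
    Disc.noetherDifferent A' B' = (Disc.noetherDifferent A B).map (algebraMap B B') := by
  haveI : Module.Flat B B' := Module.Flat.of_linearEquiv
    (Algebra.IsPushout.equiv A B A' B').toLinearEquiv.symm
  let m : B ⊗[A] B →ₐ[B] B ⊗[A] B' :=
    Algebra.TensorProduct.map (AlgHom.id B B) (IsScalarTower.toAlgHom A B B')
  let e := Algebra.IsPushout.cancelBaseChangeAlg A B A' B' B'
  refine noetherDifferent_map (e.symm.toAlgHom.toRingHom.comp m.toRingHom)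
    (RingHom.Flat.comp (RingHom.Flat.tensorProductMap (RingHom.Flat.id _)
      (RingHom.flat_algebraMap_iff.2 ‹_›)) (RingHom.Flat.of_bijective e.symm.bijective))
    (fun x y => ?_) (fun J hJ b => ?_)
  · exact Algebra.IsPushout.cancelBaseChangeAlg_symm_tmul A B A' B' B' x (algebraMap B B' y)
  · obtain ⟨t, rfl⟩ := (Algebra.IsPushout.equiv A B A' B').surjective b
    induction t using TensorProduct.induction_on with
    | zero => simp
    | add x y hx hy =>
      rw [map_add, tmul_add, add_tmul, add_sub_add_comm]
      exact J.add_mem hx hy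
    | tmul x a =>
      rw [Algebra.IsPushout.equiv_tmul, mul_comm, ← Algebra.smul_def, tmul_smul, ← smul_tmul',
        ← smul_sub]
      exact J.smul_of_tower_mem a (hJ x)

open CategoryTheory AlgebraicGeometry in
/-- The Noether different of an open affine piece. -/
theorem openImmersion {A B' B : Type u} [CommRing A] [CommRing B']
    [CommRing B] [Algebra A B'] [Algebra A B] [Algebra B' B] [IsScalarTower A B' B]
    [Algebra.FiniteType A B']
    (h : IsOpenImmersion (Spec.map (CommRingCat.ofHom (algebraMap B' B)))) :
    Disc.noetherDifferent A B = (Disc.noetherDifferent A B').map (algebraMap B' B) := by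
  haveI := h
  have hflat : (algebraMap B' B).Flat :=
    (HasRingHomProperty.Spec_iff (P := @AlgebraicGeometry.Flat)).1
      (inferInstance : AlgebraicGeometry.Flat (Spec.map (CommRingCat.ofHom (algebraMap B' B))))
  let f := IsScalarTower.toAlgHom A B' B
  refine noetherDifferent_map (Algebra.TensorProduct.map f f).toRingHom
    (RingHom.Flat.tensorProductMap hflat hflat) (fun x y => rfl) (fun J hJ b => ?_)
  let i₁ : B →+* (B ⊗[A] B) ⧸ J :=
    (Ideal.Quotient.mk J).comp Algebra.TensorProduct.includeLeftRingHom
  let i₂ : B →+* (B ⊗[A] B) ⧸ J :=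
    (Ideal.Quotient.mk J).comp (Algebra.TensorProduct.includeRight (R := A) (A := B) (B := B)).toRingHom
  have hi : CommRingCat.ofHom (algebraMap B' B) ≫ CommRingCat.ofHom i₂ =
      CommRingCat.ofHom (algebraMap B' B) ≫ CommRingCat.ofHom i₁ := by
    ext x
    exact Ideal.Quotient.eq.2 (hJ x)
  have h2 := congrArg Spec.map hi
  simp only [Spec.map_comp] at h2
  have h3 := Spec.map_injective ((cancel_mono _).1 h2)
  exact Ideal.Quotient.eq.1 (RingHom.congr_fun (congrArg CommRingCat.Hom.hom h3) b)

end GrothLib.NoetherDiff
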