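import Groth.Agent.Lib.NoetherDiff.Theta
import Mathlib.RingTheory.Unramified.Locus
import Mathlib.LinearAlgebra.Matrix.Charpoly.LinearMap
import Mathlib.RingTheory.Support

/-! # The zero locus of the Noether different -/

universe u v

namespace GrothLib.NoetherDiff

open TensorProduct KaehlerDifferential

variable {A : Type u} {B : Type v} [CommRing A] [CommRing B] [Algebra A B]

local notation "μ" => Algebra.TensorProduct.lmul' (S := B) A

lemma tmul_one_sub_mem_diag (z : B ⊗[A] B) : z - (μ z) ⊗ₜ 1 ∈ diag A B := by
  simp [diag, RingHom.mem_ker]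

/-- An element of the Noether different kills the differentials. -/
theorem noetherDifferent_le_annihilator :
    Disc.noetherDifferent A B ≤ Module.annihilator B Ω[B⁄A] := by
  intro d hd
  rw [Disc.noetherDifferent, Ideal.mem_map_iff_of_surjective _
    (fun b => ⟨1 ⊗ₜ b, by simp⟩)] at hd
  obtain ⟨z, hz, rfl⟩ := hd
  refine Module.mem_annihilator.2 fun x => ?_
  obtain ⟨⟨w, hw⟩, rfl⟩ := fromIdeal_surjective A B x
  rw [← algebraMap_smul (B ⊗[A] B) (μ z), ← map_smul]
  refine (Ideal.toCotangent_eq_zero _ _).2 ?_
  show algebraMap B (B ⊗[A] B) (μ z) * w ∈ _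
  have h0 : z * w = 0 := by
    rw [← smul_eq_mul]
    exact Submodule.mem_annihilator.1 hz w hw
  have : algebraMap B (B ⊗[A] B) (μ z) * w = -((z - (μ z) ⊗ₜ 1) * w) := by
    rw [sub_mul, h0, zero_sub, neg_neg]
    rfl
  rw [this, pow_two]
  exact neg_mem (Submodule.mul_mem_mul (tmul_one_sub_mem_diag z) hw)

/-- A power of an annihilator of the differentials lies in the Noether different. -/
theorem annihilator_le_radical [Algebra.EssFiniteType A B] :
    Module.annihilator B Ω[B⁄A] ≤ (Disc.noetherDifferent A B).radical := by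
  intro d hd
  let C := B ⊗[A] B
  let I := KaehlerDifferential.ideal A B
  haveI : Module.Finite C I := Module.Finite.iff_fg.2 (KaehlerDifferential.ideal_fg A B)
  let t : C := algebraMap B C d
  let f : Module.End C I := t • LinearMap.id
  have hf : LinearMap.range f ≤ I • ⊤ := by
    rintro _ ⟨x, rfl⟩
    have h0 : fromIdeal A B (t • x) = 0 := by
      rw [map_smul]
      exact (algebraMap_smul C d _).trans (Module.mem_annihilator.1 hd _)
    rw [Submodule.mem_smul_top_iff]
    have h := (Ideal.toCotangent_eq_zero _ _).1 h0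
    rw [pow_two] at h
    exact h
  obtain ⟨p, hp, -, hcoeff, hev⟩ :=
    LinearMap.exists_monic_and_natDegree_eq_and_coeff_mem_pow_and_aeval_eq_zero C f I hf
  refine ⟨p.natDegree, ?_⟩
  rw [Disc.noetherDifferent, Ideal.mem_map_iff_of_surjective _
    (fun b => ⟨1 ⊗ₜ b, by simp⟩)]
  refine ⟨p.eval t, ?_, ?_⟩
  · refine Submodule.mem_annihilator.2 fun w hw => ?_
    have hkey : ∀ q : Polynomial C, Polynomial.aeval f q = q.eval t • (LinearMap.id : Module.End C I) := by
      intro q
      have hf' : f = algebraMap C (Module.End C I) t := rfl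
      rw [hf', Polynomial.aeval_algebraMap_apply_eq_algebraMap_eval]
      rfl
    have h := LinearMap.congr_fun ((hkey p).symm.trans hev) ⟨w, hw⟩
    exact congrArg Subtype.val h
  · rw [Polynomial.eval_eq_sum_range, map_sum, Finset.sum_range_succ, hp.coeff_natDegree,
      Finset.sum_eq_zero, zero_add, one_mul, map_pow]
    · simp [t, C]
    · intro i hi
      rw [map_mul]
      have : p.coeff i ∈ I := Ideal.pow_le_self (by simp at hi; omega) (hcoeff i)
      rw [show μ (p.coeff i) = 0 from this, zero_mul]

/-- The zero locus of the Noether different is the ramified locus. -/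
theorem zeroLocus_eq [Algebra.FiniteType A B] :
    {q : PrimeSpectrum B | Disc.noetherDifferent A B ≤ q.asIdeal} =
      (Algebra.unramifiedLocus A B)ᶜ := by
  rw [Algebra.unramifiedLocus_eq_compl_support, compl_compl, Module.support_eq_zeroLocus]
  ext q
  rw [Set.mem_setOf_eq, PrimeSpectrum.mem_zeroLocus, SetLike.coe_subset_coe]
  exact ⟨fun h => annihilator_le_radical.trans ((Ideal.IsPrime.radical_le_iff q.isPrime).2 h),
    fun h => noetherDifferent_le_annihilator.trans h⟩

end GrothLib.NoetherDiff
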