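import Groth.Agent.Lib.NoetherDiff.Theta
import Mathlib.RingTheory.Discriminant
import Mathlib.RingTheory.Norm.Basic
import Mathlib.RingTheory.Artinian.Ring
import Mathlib.RingTheory.Artinian.Algebra

/-! # Norms of elements of the different -/

universe u v

namespace GrothLib.NoetherDiff

open Matrix

variable {A : Type u} {B : Type v} [CommRing A] [CommRing B] [Algebra A B]
variable {ι : Type*} [Fintype ι] [DecidableEq ι] (b : Module.Basis ι A B)

theorem norm_mem_span_discr {x : B} (hx : x ∈ Disc.differentSet A B) :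
    Algebra.norm A x ∈ Ideal.span {Algebra.discr A b} := by
  choose c hc using hx
  have key : Algebra.leftMulMatrix b x =
      Matrix.of (fun i k => b.repr (c (b.coord i)) k) * Algebra.traceMatrix A b := by
    ext i j
    rw [Algebra.leftMulMatrix_eq_repr_mul, Matrix.mul_apply]
    refine (hc (b.coord i) (b j)).trans ?_
    conv_lhs => rw [← b.sum_repr (c (b.coord i)), Finset.sum_mul, map_sum]
    refine Finset.sum_congr rfl fun k _ => ?_
    rw [smul_mul_assoc, map_smul, smul_eq_mul, Matrix.of_apply, Algebra.traceMatrix_apply,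
      Algebra.traceForm_apply]
  rw [Algebra.norm_eq_matrix_det b, key, det_mul, Algebra.discr_def]
  exact Ideal.mul_mem_left _ _ (Ideal.mem_span_singleton_self _)

/-- The matrix of the pairing of a functional. -/
noncomputable def formMatrix (m : Disc.Omega A B) : Matrix ι ι A :=
  Matrix.of fun i j => m.toLinearMap (b i * b j)

lemma mulVec_formMatrix (m : Disc.Omega A B) (v : ι → A) (j : ι) :
    (formMatrix b m *ᵥ v) j = m.toLinearMap ((∑ l, v l • b l) * b j) := by
  rw [Finset.sum_mul, map_sum]
  refine Finset.sum_congr rfl fun l _ => ?_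
  rw [smul_mul_assoc, map_smul, smul_eq_mul, mul_comm (b l)]
  show m.toLinearMap (b j * b l) * v l = _
  ring

variable [Module.Invertible B (Disc.Omega A B)]

/-- Locally on the base the dualizing module has a generator. -/
theorem exists_det_not_mem (p : Ideal A) [p.IsMaximal] :
    ∃ m : Disc.Omega A B, (formMatrix b m).det ∉ p := by
  classical
  have : Module.Finite A B := .of_basis b
  let M := Disc.Omega A B
  let P : Ideal B := p.map (algebraMap A B)
  let : Field (A ⧸ p) := Ideal.Quotient.field p
  haveI : Module.Finite (A ⧸ p) (B ⧸ P) := Module.Finite.of_restrictScalars_finite A _ _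
  haveI : IsArtinianRing (B ⧸ P) := IsArtinianRing.of_finite (A ⧸ p) _
  have hfin : {q : Ideal B | q.IsMaximal ∧ P ≤ q}.Finite := by
    refine Set.Finite.subset (((Set.finite_range (fun q : MaximalSpectrum (B ⧸ P) =>
      q.asIdeal.comap (Ideal.Quotient.mk P))))) fun q hq => ?_
    haveI := hq.1
    have hm : (q.map (Ideal.Quotient.mk P)).IsMaximal :=
      Ideal.IsMaximal.map_of_surjective_of_ker_le Ideal.Quotient.mk_surjective (by simpa using hq.2)
    refine ⟨⟨_, hm⟩, ?_⟩
    simp [Ideal.comap_map_of_surjective' _ Ideal.Quotient.mk_surjective, hq.2]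
  let T := hfin.toFinset
  have hT : ∀ q ∈ T, q.IsMaximal := fun q hq => ((hfin.mem_toFinset).1 hq).1
  have hpair : ∀ q ∈ T, ∃ (ψ : Module.Dual B M) (x : M), ψ x ∉ q := by
    intro q hq
    by_contra h
    push Not at h
    obtain ⟨t, ht⟩ := (Module.Invertible.linearEquiv B M).surjective 1
    have : Module.Invertible.linearEquiv B M t ∈ q := by
      clear ht
      induction t using TensorProduct.induction_on with
      | zero => simp
      | tmul ψ x => exact h ψ x
      | add a b ha hb => rw [map_add]; exact q.add_mem ha hb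
    rw [ht] at this
    exact (hT q hq).ne_top ((Ideal.eq_top_iff_one q).2 this)
  choose! ψ x hψx using hpair
  have hE : ∀ q ∈ T, ∃ e : B, e - 1 ∈ q ∧ ∀ q' ∈ T, q' ≠ q → e ∈ q' := by
    intro q hq
    have h1 : ∀ q' ∈ T.erase q, ∃ a ∈ q', a - 1 ∈ q := by
      intro q' hq'
      have h := (hT q' (Finset.mem_of_mem_erase hq')).coprime_of_ne (hT q hq)
        (Finset.ne_of_mem_erase hq')
      obtain ⟨a, ha, f, hf, haf⟩ := Submodule.mem_sup.1 ((Ideal.eq_top_iff_one _).1 h)
      exact ⟨a, ha, by rw [show a - 1 = -f by rw [← haf]; ring]; exact neg_mem hf⟩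
    choose! a ha ha1 using h1
    refine ⟨∏ q' ∈ T.erase q, a q', ?_, fun q' hq' hne =>
      Ideal.mem_of_dvd _ (Finset.dvd_prod_of_mem a (Finset.mem_erase.2 ⟨hne, hq'⟩))
        (ha q' (Finset.mem_erase.2 ⟨hne, hq'⟩))⟩
    rw [← Ideal.Quotient.eq, map_prod, map_one]
    refine Finset.prod_eq_one fun q' hq' => ?_
    rw [← map_one (Ideal.Quotient.mk q), Ideal.Quotient.eq]
    exact ha1 q' hq'
  choose! e he1 he2 using hE
  let m : M := ∑ q ∈ T, e q • x q
  let Ψ : Module.Dual B M := ∑ q ∈ T, e q • ψ q
  have hu : ∀ q ∈ T, Ψ m ∉ q := by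
    intro q hq hc
    apply hψx q hq
    have h1 : ∀ q' ∈ T, Ideal.Quotient.mk q (e q') = if q' = q then 1 else 0 := by
      intro q' hq'
      split_ifs with h
      · subst h
        rw [← map_one (Ideal.Quotient.mk q'), Ideal.Quotient.eq]
        exact he1 q' hq'
      · exact Ideal.Quotient.eq_zero_iff_mem.2 (he2 q' hq' q hq (Ne.symm h))
    rw [← Ideal.Quotient.eq_zero_iff_mem] at hc ⊢
    rw [← hc]
    simp only [Ψ, m, map_sum, LinearMap.sum_apply, LinearMap.smul_apply, map_smul, smul_eq_mul,
      map_mul]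
    rw [Finset.sum_eq_single q, Finset.sum_eq_single q]
    · simp [h1 q hq]
    · intro q' hq' hne; simp [h1 q' hq', hne]
    · exact fun h => (h hq).elim
    · intro q' hq' hne; simp [h1 q' hq', hne]
    · exact fun h => (h hq).elim
  have hunit : Ideal.span {Ψ m} ⊔ P = ⊤ := by
    by_contra h
    obtain ⟨q, hq, hle⟩ := Ideal.exists_le_maximal _ h
    exact hu q (hfin.mem_toFinset.2 ⟨hq, le_sup_right.trans hle⟩)
      ((le_sup_left.trans hle) (Ideal.mem_span_singleton_self _))
  obtain ⟨a, ha, π, hπ, haπ⟩ := Submodule.mem_sup.1 ((Ideal.eq_top_iff_one _).1 hunit)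
  obtain ⟨w, rfl⟩ := Ideal.mem_span_singleton'.1 ha
  refine ⟨m, fun hdet => ?_⟩
  let C : Matrix ι ι A := Matrix.of fun i l => b.repr (w * Ψ (coordΩ b i)) l
  have hC : ∀ i j, (1 : Matrix ι ι A) i j - (C * formMatrix b m) i j ∈ p := by
    intro i j
    let φ := coordΩ b i
    have h1 : φ = (w * Ψ φ) • m + π • φ := by
      conv_lhs => rw [← one_smul B φ, ← haπ, add_smul, mul_smul, smul_comm_of_invertible Ψ m φ,
        ← mul_smul]
    have h2 : φ.toLinearMap (b j) =
        m.toLinearMap (w * Ψ φ * b j) + φ.toLinearMap (π * b j) := by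
      conv_lhs => rw [h1]
      rfl
    have h3 : φ.toLinearMap (b j) = (1 : Matrix ι ι A) i j := by
      simp [φ, coordΩ, Matrix.one_apply, Finsupp.single_apply, eq_comm]
    have h4 : m.toLinearMap (w * Ψ φ * b j) = (C * formMatrix b m) i j := by
      conv_lhs => rw [← b.sum_repr (w * Ψ φ), Finset.sum_mul, map_sum]
      rw [Matrix.mul_apply]
      refine Finset.sum_congr rfl fun l _ => ?_
      rw [smul_mul_assoc, map_smul, smul_eq_mul]
      rfl
    rw [← h3, ← h4, h2, add_sub_cancel_left]
    have hπ' : π * b j ∈ p • (⊤ : Submodule A B) := by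
      rw [Ideal.smul_top_eq_map]
      exact Ideal.mul_mem_right _ _ hπ
    refine Submodule.smul_induction_on hπ' (fun a ha y _ => ?_) (fun y z hy hz => ?_)
    · rw [map_smul, smul_eq_mul]; exact p.mul_mem_right _ ha
    · rw [map_add]; exact p.add_mem hy hz
  have hone : Ideal.Quotient.mk p ((C * formMatrix b m).det) = 1 := by
    rw [RingHom.map_det]
    convert det_one (R := A ⧸ p) (n := ι)
    ext i j
    rw [RingHom.mapMatrix_apply, Matrix.map_apply]
    have := Ideal.Quotient.eq.2 (hC i j)
    rw [← this]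
    simp [Matrix.one_apply, apply_ite]
  rw [det_mul, map_mul, Ideal.Quotient.eq_zero_iff_mem.2 hdet, mul_zero] at hone
  exact zero_ne_one hone

/-- The discriminant lies in the norm ideal of the different. -/
theorem discr_mem_span_norm :
    Algebra.discr A b ∈ Ideal.span (Algebra.norm A '' Disc.differentSet A B) := by
  have : Module.Finite A B := .of_basis b
  have : Module.Free A B := .of_basis b
  set J := Ideal.span (Algebra.norm A '' Disc.differentSet A B)
  suffices h : J.colon ({Algebra.discr A b} : Set A) = ⊤ by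
    have := Submodule.mem_colon_singleton.1 (h.symm ▸ Submodule.mem_top : (1 : A) ∈ _)
    simpa using this
  by_contra h
  obtain ⟨p, hp, hle⟩ := Ideal.exists_le_maximal _ h
  obtain ⟨m, hm⟩ := exists_det_not_mem b p
  set S := (formMatrix b m).det
  have hgen : ∀ φ : B →ₗ[A] A, ∃ c : B, ∀ y, S * φ y = m.toLinearMap (c * y) := by
    intro φ
    let v : ι → A := (formMatrix b m).adjugate *ᵥ fun j => φ (b j)
    refine ⟨∑ l, v l • b l, fun y => ?_⟩
    have h1 : ∀ j, m.toLinearMap ((∑ l, v l • b l) * b j) = S * φ (b j) := fun j => by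
      rw [← mulVec_formMatrix, mulVec_mulVec, mul_adjugate, smul_mulVec, one_mulVec]
      rfl
    exact LinearMap.congr_fun (b.ext (f₁ := S • φ)
      (f₂ := m.toLinearMap.comp (LinearMap.mulLeft A (∑ l, v l • b l))) fun j => (h1 j).symm) y
  obtain ⟨δ, hδ⟩ := hgen (Algebra.trace A B)
  let X : B := algebraMap A B S * δ
  have hX : X ∈ Disc.differentSet A B := by
    intro φ
    obtain ⟨c, hc⟩ := hgen φ
    refine ⟨algebraMap A B S * c * 1, fun y => ?_⟩
    rw [mul_one, show X * y = S • (δ * y) by simp [X, Algebra.smul_def, mul_assoc], map_smul,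
      smul_eq_mul, hc, show algebraMap A B S * c * y = c * (algebraMap A B S * y) by ring,
      show c * (δ * y) = δ * (c * y) by ring, ← hδ]
    rw [show c * (algebraMap A B S * y) = S • (c * y) by simp [Algebra.smul_def]; ring, map_smul,
      smul_eq_mul]
  have hST : S • Algebra.traceMatrix A b = (Algebra.leftMulMatrix b δ)ᵀ * formMatrix b m := by
    ext i j
    rw [Matrix.smul_apply, Algebra.traceMatrix_apply, Algebra.traceForm_apply, smul_eq_mul, hδ,
      ← mul_assoc]
    conv_lhs => rw [← b.sum_repr (δ * b i), Finset.sum_mul, map_sum]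
    rw [Matrix.mul_apply]
    refine Finset.sum_congr rfl fun l _ => ?_
    rw [smul_mul_assoc, map_smul, smul_eq_mul, Matrix.transpose_apply,
      Algebra.leftMulMatrix_eq_repr_mul]
    rfl
  have hdet := congrArg Matrix.det hST
  rw [det_smul, det_mul, det_transpose, ← Algebra.norm_eq_matrix_det, ← Algebra.discr_def] at hdet
  have hN : Algebra.norm A X = S ^ Fintype.card ι * Algebra.norm A δ := by
    rw [map_mul, Algebra.norm_algebraMap_of_basis b]
  have : S ^ (Fintype.card ι + Fintype.card ι) ∈ J.colon ({Algebra.discr A b} : Set A) := by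
    rw [Submodule.mem_colon_singleton, smul_eq_mul, pow_add, mul_assoc, hdet,
      show S ^ Fintype.card ι * (Algebra.norm A δ * S) = S * Algebra.norm A X by rw [hN]; ring]
    exact J.mul_mem_left _ (Ideal.subset_span ⟨X, hX, rfl⟩)
  exact hm (hp.isPrime.mem_of_pow_mem _ (hle this))

theorem span_norm_eq :
    Ideal.span (Algebra.norm A '' Disc.differentSet A B) = Ideal.span {Algebra.discr A b} := by
  refine le_antisymm (Ideal.span_le.2 ?_) ((Ideal.span_singleton_le_iff_mem _).2 (discr_mem_span_norm b))
  rintro _ ⟨x, hx, rfl⟩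
  exact norm_mem_span_discr b hx

end GrothLib.NoetherDiff
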