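import Groth.Agent.Lib.NoetherDiff.Radical
import Mathlib.LinearAlgebra.Matrix.NonsingularInverse

/-!
# The matrix of the pairing with an element of the enveloping algebra
-/

universe u v

namespace GrothLib.NoetherDiff

open TensorProduct

variable {A : Type u} {B : Type v} [CommRing A] [CommRing B] [Algebra A B]
variable {ι : Type*} [Fintype ι] [DecidableEq ι] (e : Module.Basis ι A B)

/-- The matrix of `l ↦ pair l z`. -/
noncomputable def mat (z : B ⊗[A] B) : Matrix ι ι A :=
  Matrix.of fun i j => e.repr (pair (coordΩ e i) z) j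

lemma pair_eq_sum (l : Disc.Omega A B) (z : B ⊗[A] B) :
    pair l z = ∑ i, l.toLinearMap (e i) • pair (coordΩ e i) z := by
  conv_lhs => rw [eq_sum_pair e z, map_sum]
  simp only [pair_tmul]

lemma repr_pair (l : Disc.Omega A B) (z : B ⊗[A] B) :
    (e.repr (pair l z) : ι → A) = Matrix.vecMul (fun i => l.toLinearMap (e i)) (mat e z) := by
  funext j
  rw [pair_eq_sum e l z, map_sum, Finsupp.finset_sum_apply]
  simp only [map_smul, Finsupp.smul_apply, smul_eq_mul]
  rfl

omit [DecidableEq ι] in
lemma eval_bijective :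
    Function.Bijective fun l : Disc.Omega A B => fun i => l.toLinearMap (e i) :=
  ⟨fun _ _ h => Disc.Omega.ext (e.ext fun i => congrFun h i),
    fun v => ⟨⟨e.constr A v⟩, funext fun i => e.constr_basis A v i⟩⟩

theorem pair_bijective_iff (z : B ⊗[A] B) :
    Function.Bijective (fun l => pair l z) ↔ IsUnit (mat e z) := by
  have h : (fun l => pair l z) = e.equivFun.symm ∘ (fun v => Matrix.vecMul v (mat e z)) ∘
      fun l : Disc.Omega A B => fun i => l.toLinearMap (e i) := by
    funext l
    refine e.equivFun.injective ?_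
    simp only [Function.comp_apply, LinearEquiv.apply_symm_apply]
    rw [Module.Basis.equivFun_apply, repr_pair]
  rw [h, Function.Bijective.of_comp_iff' e.equivFun.symm.bijective,
    Function.Bijective.of_comp_iff _ (eval_bijective e)]
  refine ⟨fun hb => Matrix.vecMul_surjective_iff_isUnit.1 hb.2, fun hu => ?_⟩
  obtain ⟨U, hU⟩ := hu
  refine Function.bijective_iff_has_inverse.2
    ⟨fun v => Matrix.vecMul v (↑U⁻¹ : Matrix ι ι A), fun v => ?_, fun v => ?_⟩ <;>
    simp [Matrix.vecMul_vecMul, ← hU]

variable {A' : Type*} {B' : Type*} [CommRing A'] [CommRing B'] [Algebra A' B']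
variable (e' : Module.Basis ι A' B') (f₀ : A →+* A') (φ : B →+* B')

/-- Change of the base. -/
theorem mat_map (hφ : ∀ a, φ (algebraMap A B a) = algebraMap A' B' (f₀ a))
    (he : ∀ i, e' i = φ (e i)) (Φ : B ⊗[A] B →+* B' ⊗[A'] B')
    (hΦ : ∀ x y, Φ (x ⊗ₜ y) = φ x ⊗ₜ φ y) (z : B ⊗[A] B) :
    mat e' (Φ z) = (mat e z).map f₀ := by
  have h1 : ∀ i, pair (coordΩ e' i) (Φ z) = φ (pair (coordΩ e i) z) := by
    intro i
    conv_lhs => rw [eq_sum_pair e z, map_sum, map_sum]
    simp only [hΦ, ← he, pair_tmul, coordΩ, Module.Basis.coord_apply, Module.Basis.repr_self,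
      Finsupp.single_apply, ite_smul, one_smul, zero_smul, Finset.sum_ite_eq', Finset.mem_univ,
      if_true]
  have h2 : ∀ (b : B) j, e'.repr (φ b) j = f₀ (e.repr b j) := by
    intro b j
    conv_lhs => rw [← e.sum_repr b, map_sum]
    simp only [Algebra.smul_def, map_mul, hφ, ← he]
    simp only [← Algebra.smul_def, map_sum, map_smul, Module.Basis.repr_self, Finsupp.smul_single,
      smul_eq_mul, mul_one, Finsupp.finset_sum_apply, Finsupp.single_apply, Finset.sum_ite_eq',
      Finset.mem_univ, if_true]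
  ext i j
  simp only [mat, Matrix.of_apply, Matrix.map_apply, h1, h2]

omit [DecidableEq ι] in
/-- A generator of the diagonal annihilator is bijective as soon as some isomorphism exists. -/
theorem pair_bijective_of_equiv [Module.Finite A B] [Module.Free A B] (z : B ⊗[A] B)
    (hz : Submodule.annihilator (diag A B) = Ideal.span {z})
    (e₀ : B ≃ₗ[B] Disc.Omega A B) : Function.Bijective fun l => pair l z := by
  have hzmem : z ∈ Submodule.annihilator (diag A B) := hz ▸ Ideal.mem_span_singleton_self z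
  obtain ⟨ξ, ⟨hξ, hΦ⟩, -⟩ := existsUnique_pair (e₀.symm : Disc.Omega A B →ₗ[B] B)
  rw [hz] at hξ
  obtain ⟨w, rfl⟩ := Ideal.mem_span_singleton'.1 hξ
  set β := Algebra.TensorProduct.lmul' (S := B) A w
  have hθ : ∀ l, e₀.symm l = β * pair l z := fun l => by
    rw [show e₀.symm l = pair l (w * z) from hΦ l, mul_eq_of_mem_annihilator hzmem,
      mem_annihilator_diag_iff.1 hzmem, pair_mul_right]
  refine ⟨fun l m h => e₀.symm.injective (by rw [hθ, hθ]; exact congrArg _ h), fun y => ?_⟩
  obtain ⟨l₀, hl₀⟩ := e₀.symm.surjective 1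
  refine ⟨(y * β) • l₀, ?_⟩
  show pair ((y * β) • l₀) z = y
  rw [← pair_mul_left, mem_annihilator_diag_iff.1 hzmem, pair_mul_right, mul_assoc, ← hθ, hl₀,
    mul_one]

end GrothLib.NoetherDiff
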