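import Groth.Agent.Lib.NoetherDiff.Locus

/-! # The different and the Noether different have the same zero locus -/

universe u v

namespace GrothLib.NoetherDiff

open TensorProduct

variable {A : Type u} {B : Type v} [CommRing A] [CommRing B] [Algebra A B]

local notation "μ" => Algebra.TensorProduct.lmul' (S := B) A

local notation "σ" => Algebra.TensorProduct.comm A B B

lemma mul_eq_of_mem_annihilator {z : B ⊗[A] B} (hz : z ∈ Submodule.annihilator (diag A B))
    (w : B ⊗[A] B) : w * z = (μ w ⊗ₜ 1) * z := by
  have h := Submodule.mem_annihilator.1 hz _ (tmul_one_sub_mem_diag w)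
  rw [smul_eq_mul, mul_sub, sub_eq_zero] at h
  rw [mul_comm w, mul_comm _ z, h]

lemma lmul_comm (z : B ⊗[A] B) : μ (σ z) = μ z := by
  induction z using TensorProduct.induction_on with
  | zero => simp
  | tmul x y => simp [mul_comm]
  | add x y hx hy => simp only [map_add, hx, hy]

lemma comm_mem_annihilator {z : B ⊗[A] B} (hz : z ∈ Submodule.annihilator (diag A B)) :
    σ z ∈ Submodule.annihilator (diag A B) :=
  mem_annihilator_diag_iff.2 fun b => by
    have h := congrArg σ (mem_annihilator_diag_iff.1 hz b)
    simpa [map_mul] using h.symm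

lemma symmetrise {z : B ⊗[A] B} (hz : z ∈ Submodule.annihilator (diag A B)) :
    σ ((μ z ⊗ₜ 1) * z) = (μ z ⊗ₜ 1) * z := by
  have h1 := mul_eq_of_mem_annihilator hz (σ z)
  have h2 := mul_eq_of_mem_annihilator (comm_mem_annihilator hz) z
  rw [lmul_comm, mul_comm] at h1
  rw [map_mul, Algebra.TensorProduct.comm_tmul, ← mem_annihilator_diag_iff.1
    (comm_mem_annihilator hz), ← h2, h1]

lemma apply_pair_comm (l m : Disc.Omega A B) (z : B ⊗[A] B) :
    m.toLinearMap (pair l (σ z)) = l.toLinearMap (pair m z) := by
  induction z using TensorProduct.induction_on with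
  | zero => simp
  | tmul x y => simp [mul_comm]
  | add x y hx hy => simp only [map_add, hx, hy]

variable [Module.Finite A B] [Module.Free A B]

/-- The square of an element of the Noether different lies in the different. -/
theorem sq_mem_differentSet {d : B} (hd : d ∈ Disc.noetherDifferent A B) :
    d * d ∈ Disc.differentSet A B := by
  rw [Disc.noetherDifferent, Ideal.mem_map_iff_of_surjective _
    (fun b => ⟨1 ⊗ₜ b, by simp⟩)] at hd
  obtain ⟨z, hz, rfl⟩ := hd
  set w := (μ z ⊗ₜ 1) * z with hw
  have hwmem : w ∈ Submodule.annihilator (diag A B) := Ideal.mul_mem_left _ _ hz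
  have hμ : μ w = μ z * μ z := by simp [w, map_mul]
  intro φ
  refine ⟨pair ⟨φ⟩ w, fun y => ?_⟩
  have h1 : σ ((1 ⊗ₜ y) * w) = (1 ⊗ₜ y) * w := by
    rw [map_mul, symmetrise hz, Algebra.TensorProduct.comm_tmul,
      mem_annihilator_diag_iff.1 hwmem]
  rw [← hμ, ← pair_trace hwmem, mul_comm, ← pair_mul_right, mul_comm (pair ⟨φ⟩ w), ← pair_mul_right]
  conv_lhs => rw [← h1]
  exact apply_pair_comm (Disc.Omega.trace A B) ⟨φ⟩ _

/-- The square of an element of the different lies in the Noether different. -/
theorem sq_mem_noetherDifferent {x : B} (hx : x ∈ Disc.differentSet A B) :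
    x * x ∈ Disc.noetherDifferent A B := by
  let τ := Disc.Omega.trace A B
  have hc : ∀ l : Disc.Omega A B, ∃ c : B, x • l = c • τ := fun l => by
    obtain ⟨c, hc⟩ := hx l.toLinearMap
    exact ⟨c, Disc.Omega.ext (LinearMap.ext hc)⟩
  choose c hc using hc
  have hkill : ∀ d : B, d • τ = 0 → x * d = 0 := by
    intro d hd
    have h : ∀ i, (coordΩ (Module.Free.chooseBasis A B) i).toLinearMap (x * d) = 0 := fun i => by
      have := congrArg (fun l : Disc.Omega A B => l.toLinearMap d)
        (hc (coordΩ (Module.Free.chooseBasis A B) i))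
      simp only [Disc.Omega.smul_toLinearMap_apply] at this
      rw [this, mul_comm]
      have h2 := congrArg (fun l : Disc.Omega A B => l.toLinearMap
        (c (coordΩ (Module.Free.chooseBasis A B) i))) hd
      simpa using h2
    exact (Module.Free.chooseBasis A B).ext_elem fun i => by simpa [coordΩ] using h i
  have hwd : ∀ d e : B, d • τ = e • τ → x * d = x * e := fun d e h => by
    rw [← sub_eq_zero, ← mul_sub]
    exact hkill _ (by rw [sub_smul, h, sub_self])
  let Φ : Disc.Omega A B →ₗ[B] B :=
    { toFun := fun l => x * c l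
      map_add' := fun l m => by
        rw [← mul_add]
        exact hwd _ _ (by rw [← hc, smul_add, hc, hc, add_smul])
      map_smul' := fun b l => by
        rw [RingHom.id_apply, smul_eq_mul, mul_left_comm]
        exact hwd _ _ (by rw [← hc, smul_comm, hc, mul_smul]) }
  have hΦ : Φ τ = x * x := hwd _ _ (hc τ).symm
  have h := Set.mem_range_self (f := fun φ : Disc.Omega A B →ₗ[B] B => φ τ) Φ
  rw [← noetherDifferent_eq_range] at h
  exact hΦ ▸ h

theorem differentSet_subset_iff (q : Ideal B) [hq : q.IsPrime] :
    Disc.differentSet A B ⊆ q ↔ ¬ Algebra.IsUnramifiedAt A q := by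
  have h : Disc.noetherDifferent A B ≤ q ↔ ¬ Algebra.IsUnramifiedAt A q :=
    iff_of_eq (congrArg (fun S : Set (PrimeSpectrum B) => (⟨q, hq⟩ : PrimeSpectrum B) ∈ S)
      (zeroLocus_eq (A := A) (B := B)))
  rw [← h]
  exact ⟨fun hD d hd => (hq.mem_or_mem (hD (sq_mem_differentSet hd))).elim id id,
    fun hN x hx => (hq.mem_or_mem (hN (sq_mem_noetherDifferent hx))).elim id id⟩

end GrothLib.NoetherDiff
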