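import Groth.Prelude.Def_Disc
import Mathlib.RingTheory.Kaehler.Basic
import Mathlib.RingTheory.PicardGroup
import Mathlib.RingTheory.Trace.Basic
import Mathlib.LinearAlgebra.TensorProduct.Basis

/-!
# The pairing between the diagonal annihilator and the dualizing module
-/

universe u v

namespace GrothLib.NoetherDiff

open TensorProduct

variable {A : Type u} {B : Type v} [CommRing A] [CommRing B] [Algebra A B]

variable (A B) in
/-- The kernel of the multiplication. -/
noncomputable abbrev diag : Ideal (B ⊗[A] B) :=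
  RingHom.ker (Algebra.TensorProduct.lmul' (S := B) A)

/-- Evaluation of a functional on the left factor. -/
noncomputable def pair (l : Disc.Omega A B) : B ⊗[A] B →ₗ[A] B :=
  TensorProduct.lift ((LinearMap.lsmul A B).comp l.toLinearMap)

@[simp] lemma pair_tmul (l : Disc.Omega A B) (x y : B) : pair l (x ⊗ₜ y) = l.toLinearMap x • y :=
  rfl

lemma pair_mul_right (l : Disc.Omega A B) (b : B) (z : B ⊗[A] B) :
    pair l ((1 ⊗ₜ b) * z) = b * pair l z := by
  induction z using TensorProduct.induction_on with
  | zero => simp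
  | tmul x y => simp
  | add x y hx hy => simp only [mul_add, map_add, hx, hy]

lemma pair_mul_left (l : Disc.Omega A B) (b : B) (z : B ⊗[A] B) :
    pair l ((b ⊗ₜ 1) * z) = pair (b • l) z := by
  induction z using TensorProduct.induction_on with
  | zero => simp
  | tmul x y => simp
  | add x y hx hy => simp only [mul_add, map_add, hx, hy]

lemma mem_annihilator_diag_iff {z : B ⊗[A] B} :
    z ∈ Submodule.annihilator (diag A B) ↔ ∀ b : B, (b ⊗ₜ 1) * z = (1 ⊗ₜ b) * z := by
  have h : diag A B =
      Ideal.span (Set.range fun s : B => (1 : B) ⊗ₜ[A] s - s ⊗ₜ[A] (1 : B)) :=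
    (KaehlerDifferential.span_range_eq_ideal A B).symm
  rw [h, Ideal.span, Submodule.mem_annihilator_span]
  simp only [Subtype.forall, Set.forall_mem_range, smul_eq_mul]
  refine forall_congr' fun b => ?_
  rw [mul_sub, sub_eq_zero, mul_comm z, mul_comm z]
  exact eq_comm

section Basis

variable {ι : Type*} [Fintype ι] (e : Module.Basis ι A B)

/-- The coordinate functional. -/
noncomputable def coordΩ (i : ι) : Disc.Omega A B := ⟨e.coord i⟩

lemma eq_sum_pair (z : B ⊗[A] B) : z = ∑ i, e i ⊗ₜ[A] pair (coordΩ e i) z := by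
  induction z using TensorProduct.induction_on with
  | zero => simp
  | tmul x y =>
    conv_lhs => rw [← e.sum_repr x, sum_tmul]
    refine Finset.sum_congr rfl fun i _ => ?_
    rw [pair_tmul, smul_tmul]
    rfl
  | add x y hx hy =>
    simp only [map_add, tmul_add, Finset.sum_add_distrib]
    rw [← hx, ← hy]

include e in
lemma pair_ext {z z' : B ⊗[A] B} (h : ∀ l, pair l z = pair l z') : z = z' := by
  rw [eq_sum_pair e z, eq_sum_pair e z']
  simp only [h]

lemma eq_sum_coord (l : Disc.Omega A B) :
    l = ∑ i, algebraMap A B (l.toLinearMap (e i)) • coordΩ e i := by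
  have hsum : ∀ (s : Finset ι) (g : ι → Disc.Omega A B) (x : B),
      (∑ i ∈ s, g i).toLinearMap x = ∑ i ∈ s, (g i).toLinearMap x := by
    intro s g x
    induction s using Finset.cons_induction with
    | empty => simp
    | cons a t ha ih => simp [Finset.sum_cons, ih]
  refine Disc.Omega.ext (LinearMap.ext fun x => ?_)
  rw [hsum]
  conv_lhs => rw [← e.sum_repr x, map_sum]
  refine Finset.sum_congr rfl fun i _ => ?_
  simp [coordΩ, ← Algebra.smul_def, mul_comm]
  rw [mul_comm x, ← Algebra.smul_def, map_smul]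
  simp [mul_comm]

lemma pair_sum (Φ : Disc.Omega A B →ₗ[B] B) (l : Disc.Omega A B) :
    pair l (∑ i, e i ⊗ₜ[A] Φ (coordΩ e i)) = Φ l := by
  rw [map_sum]
  conv_rhs => rw [eq_sum_coord e l, map_sum]
  simp [Algebra.smul_def]

end Basis

/-- A diagonal annihilator gives a `B`-linear functional on `ω`. -/
noncomputable def toHom (z : B ⊗[A] B) (hz : z ∈ Submodule.annihilator (diag A B)) :
    Disc.Omega A B →ₗ[B] B where
  toFun l := pair l z
  map_add' l m := by
    exact LinearMap.congr_fun (show pair (l + m) = pair l + pair m from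
      TensorProduct.ext' fun x y => by simp [add_smul]) z
  map_smul' b l := by
    rw [← pair_mul_left, mem_annihilator_diag_iff.1 hz, pair_mul_right, RingHom.id_apply,
      smul_eq_mul]

variable [Module.Finite A B] [Module.Free A B]

/-- Every functional comes from a unique diagonal annihilator. -/
theorem existsUnique_pair (Φ : Disc.Omega A B →ₗ[B] B) :
    ∃! ξ : B ⊗[A] B, ξ ∈ Submodule.annihilator (diag A B) ∧ ∀ l, Φ l = pair l ξ := by
  let e := Module.Free.chooseBasis A B
  refine ⟨∑ i, e i ⊗ₜ[A] Φ (coordΩ e i), ⟨mem_annihilator_diag_iff.2 fun b => ?_,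
    fun l => (pair_sum e Φ l).symm⟩, fun z hz => pair_ext e fun l => ?_⟩
  · refine pair_ext e fun l => ?_
    rw [pair_mul_left, pair_mul_right, pair_sum, pair_sum, map_smul, smul_eq_mul]
  · rw [pair_sum, ← hz.2]

/-- The trace evaluates a diagonal annihilator by multiplication. -/
theorem pair_trace {z : B ⊗[A] B} (hz : z ∈ Submodule.annihilator (diag A B)) :
    pair (Disc.Omega.trace A B) z = Algebra.TensorProduct.lmul' (S := B) A z := by
  classical
  let e := Module.Free.chooseBasis A B
  have key : ∀ w : B ⊗[A] B, pair (Disc.Omega.trace A B) w =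
      ∑ k, pair (coordΩ e k) ((e k ⊗ₜ 1) * w) := by
    intro w
    induction w using TensorProduct.induction_on with
    | zero => simp
    | add x y hx hy => simp only [map_add, mul_add, hx, hy, Finset.sum_add_distrib]
    | tmul x y =>
      simp only [pair_tmul, Algebra.TensorProduct.tmul_mul_tmul, one_mul, ← Finset.sum_smul]
      congr 1
      show Algebra.trace A B x = _
      rw [Algebra.trace_eq_matrix_trace e, Matrix.trace]
      refine Finset.sum_congr rfl fun k _ => ?_
      rw [Matrix.diag_apply, Algebra.leftMulMatrix_eq_repr_mul, mul_comm]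
      rfl
  rw [key]
  conv_rhs => rw [eq_sum_pair e z, map_sum]
  refine Finset.sum_congr rfl fun k _ => ?_
  rw [mem_annihilator_diag_iff.1 hz, pair_mul_right, Algebra.TensorProduct.lmul'_apply_tmul]

/-- The Noether different consists of the values at the trace of the functionals on `ω`. -/
theorem noetherDifferent_eq_range :
    (Disc.noetherDifferent A B : Set B) =
      Set.range (fun φ : Disc.Omega A B →ₗ[B] B => φ (Disc.Omega.trace A B)) := by
  have hsurj : Function.Surjective (Algebra.TensorProduct.lmul' (S := B) A) := fun b =>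
    ⟨1 ⊗ₜ b, by simp⟩
  ext b
  rw [Disc.noetherDifferent, SetLike.mem_coe, Ideal.mem_map_iff_of_surjective _ hsurj, Set.mem_range]
  constructor
  · rintro ⟨z, hz, rfl⟩
    exact ⟨toHom z hz, pair_trace hz⟩
  · rintro ⟨Φ, rfl⟩
    obtain ⟨z, ⟨hz, hΦ⟩, -⟩ := existsUnique_pair Φ
    exact ⟨z, hz, by rw [← pair_trace hz]; exact (hΦ _).symm⟩

omit [Module.Finite A B] [Module.Free A B] in
/-- For an invertible module functionals can be swapped. -/
theorem smul_comm_of_invertible {M : Type*} [AddCommGroup M] [Module B M] [Module.Invertible B M]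
    (Φ : M →ₗ[B] B) (x y : M) : Φ x • y = Φ y • x := by
  classical
  obtain ⟨t, ht⟩ := (Module.Invertible.linearEquiv B M).surjective 1
  suffices h : ∀ b : B, b ∈ Ideal.radical
      ((⊥ : Submodule B M).colon {Φ x • y - Φ y • x}) by
    have h1 := h 1
    rw [← Ideal.eq_top_iff_one, Ideal.radical_eq_top] at h1
    have h2 := Submodule.mem_colon_singleton.1 (h1.symm ▸ Submodule.mem_top : (1 : B) ∈ _)
    rw [one_smul, Submodule.mem_bot, sub_eq_zero] at h2
    exact h2
  intro b
  suffices h : (1 : B) ∈ Ideal.radical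
      ((⊥ : Submodule B M).colon {Φ x • y - Φ y • x}) by
    simpa using Ideal.mul_mem_left _ b h
  rw [← ht]
  clear ht b
  induction t using TensorProduct.induction_on with
  | zero => rw [map_zero]; exact Submodule.zero_mem _
  | add a b ha hb => rw [map_add]; exact Submodule.add_mem _ ha hb
  | tmul ψ m =>
    rw [Module.Invertible.linearEquiv, LinearEquiv.ofBijective_apply, contractLeft_apply]
    refine ⟨4, Submodule.mem_colon_singleton.2 ?_⟩
    obtain ⟨d, hd⟩ := (Module.Invertible.toModuleEnd_bijective (R := B) (M := M)).2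
      (ψ.smulRight m)
    have hd' : ∀ z : M, d • z = ψ z • m := fun z => LinearMap.congr_fun hd z
    have hu : ψ m * ψ m = d * ψ m := by
      have h := congrArg ψ (hd' m)
      simp only [map_smul, smul_eq_mul] at h
      exact h.symm
    have hz : ∀ z : M, (ψ m ^ 2) • z = (ψ m * ψ z) • m := fun z => by
      rw [pow_two, hu, mul_comm d, mul_smul, hd', ← mul_smul]
    rw [Submodule.mem_bot, show ψ m ^ 4 = ψ m ^ 2 * ψ m ^ 2 by ring, smul_sub, mul_smul, mul_smul,
      smul_comm (ψ m ^ 2) (Φ x) y, smul_comm (ψ m ^ 2) (Φ y) x, hz y, hz x, smul_smul, smul_smul,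
      smul_smul, smul_smul, sub_eq_zero]
    have hΦ : ∀ z : M, ψ m ^ 2 * Φ z = ψ m * ψ z * Φ m := fun z => by
      have h := congrArg Φ (hz z)
      simpa using h
    congr 1
    rw [← mul_assoc, ← mul_assoc, hΦ x, hΦ y]
    ring

/-- For invertible `ω` the two differents agree. -/
theorem differentSet_eq [Module.Invertible B (Disc.Omega A B)] :
    Disc.differentSet A B = (Disc.noetherDifferent A B : Set B) := by
  rw [noetherDifferent_eq_range]
  ext b
  constructor
  · intro hb
    suffices h : ∀ t : Module.Dual B (Disc.Omega A B) ⊗[B] Disc.Omega A B,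
        ∃ Φ : Disc.Omega A B →ₗ[B] B,
          Φ (Disc.Omega.trace A B) = b * Module.Invertible.linearEquiv B (Disc.Omega A B) t by
      obtain ⟨t, ht⟩ := (Module.Invertible.linearEquiv B (Disc.Omega A B)).surjective 1
      obtain ⟨Φ, hΦ⟩ := h t
      exact ⟨Φ, by rw [ht, mul_one] at hΦ; exact hΦ⟩
    intro t
    induction t using TensorProduct.induction_on with
    | zero => exact ⟨0, by simp⟩
    | add s t hs ht =>
      obtain ⟨Φ, hΦ⟩ := hs
      obtain ⟨Ψ, hΨ⟩ := ht
      exact ⟨Φ + Ψ, by rw [LinearMap.add_apply, hΦ, hΨ, map_add, mul_add]⟩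
    | tmul ψ l =>
      obtain ⟨c, hc⟩ := hb l.toLinearMap
      refine ⟨c • ψ, ?_⟩
      have h : b • l = c • Disc.Omega.trace A B := Disc.Omega.ext (LinearMap.ext hc)
      show c * ψ _ = b * ψ l
      rw [← smul_eq_mul, ← map_smul, ← h, map_smul, smul_eq_mul]
  · rintro ⟨Φ, rfl⟩ φ
    refine ⟨Φ ⟨φ⟩, fun x => ?_⟩
    exact congrArg (fun l : Disc.Omega A B => l.toLinearMap x)
      (smul_comm_of_invertible Φ (Disc.Omega.trace A B) ⟨φ⟩)

end GrothLib.NoetherDiff
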